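import Groth.Agent.AmpleThLib.Pow
import Groth.Agent.CubeLib.Glue

/-! Cocycle description of a torsion line bundle. -/

set_option autoImplicit false
universe u

open CategoryTheory CategoryTheory.Limits AlgebraicGeometry TopologicalSpace Opposite
open AmpleLib (GenOn res)

noncomputable section

namespace TorsLineLib

variable {X : Scheme.{u}}

/-- restriction of functions -/
abbrev rs {V W : X.Opens} (h : V ≤ W) : Γ(X, W) →+* Γ(X, V) := (X.presheaf.map (homOfLE h).op).hom

theorem rs_rs {U V W : X.Opens} (h : V ≤ W) (h' : U ≤ V) (a : Γ(X, W)) : rs h' (rs h a) = rs (h'.trans h) a := by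
  rw [rs, rs, rs, ← CommRingCat.comp_apply, ← X.presheaf.map_comp]
  rfl

/-- Affine charts `U x` with generators `e x`, transition units and the units comparing `e x ^ d` to a global
generator of `L ^ d`. -/
structure Data (L : X.Modules) (d : ℕ) where
  U : X → X.Opens
  mem : ∀ x, x ∈ U x
  aff : ∀ x, IsAffineOpen (U x)
  e : ∀ x, Γ(L, U x)
  gen : ∀ x, GenOn L (e x)
  u : ∀ x y, Γ(X, U x ⊓ U y)
  u_spec : ∀ x y, res L (inf_le_left : U x ⊓ U y ≤ U x) (e x) = u x y • res L (inf_le_right : U x ⊓ U y ≤ U y) (e y)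
  f : ∀ x, Γ(X, U x)
  f_unit : ∀ x, IsUnit (f x)
  f_spec : ∀ x y, rs (inf_le_left : U x ⊓ U y ≤ U x) (f x) = u x y ^ d * rs (inf_le_right : U x ⊓ U y ≤ U y) (f y)

theorem exists_data (L : X.Modules) (hL : PicF.IsInvertible L) (d : ℕ)
    (hord : Nonempty (CohB1.tensorPow L d ≅ Coh.structureModule X)) : Nonempty (Data L d) := by
  obtain ⟨g, hg⟩ := CubeLib.exists_genOn_top hord
  have h0 : ∀ x : X, ∃ (U : X.Opens) (_ : IsAffineOpen U) (e : Γ(L, U)), x ∈ U ∧ GenOn L e := fun x => by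
    obtain ⟨U, e, hx, he⟩ := TwistLib.exists_genOn hL x
    obtain ⟨V, hV, hxV, hVU⟩ := exists_isAffineOpen_mem_and_subset hx
    exact ⟨V, hV, res L hVU e, hxV, he.res hVU⟩
  choose U hU e hx he using h0
  choose u hu using fun x y => ((he y).res (inf_le_right : U x ⊓ U y ≤ U y) (U x ⊓ U y) le_rfl).2
    (res L (inf_le_left : U x ⊓ U y ≤ U x) (e x))
  simp only [AmpleLib.res_refl] at hu
  choose f hf using fun x => (hg (U x) le_top).2 (AmpleThLib.pS (e x) d)
  simp only at hf
  refine ⟨⟨U, hx, hU, e, he, u, fun x y => (hu x y).symm, f, fun x => ?_, fun x y => ?_⟩⟩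
  · refine CubeLib.isUnit_of_genOn (hg.res (le_top : U x ≤ ⊤)) ?_
    rw [hf]
    exact AmpleThLib.pS_genOn (he x) d
  · refine (hg (U x ⊓ U y) le_top).1 ?_
    have h1 := congrArg (res (CohB1.tensorPow L d) (inf_le_left : U x ⊓ U y ≤ U x)) (hf x)
    have h2 := congrArg (res (CohB1.tensorPow L d) (inf_le_right : U x ⊓ U y ≤ U y)) (hf y)
    rw [AmpleLib.res_smul, AmpleLib.res_res, AmpleThLib.pS_res] at h1 h2
    rw [← hu x y, AmpleThLib.pS_smul, ← h2, smul_smul] at h1
    exact h1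

variable {L : X.Modules} {d : ℕ} (D : Data L d)

theorem Data.u_unit (x y : X) : IsUnit (D.u x y) := by
  refine CubeLib.isUnit_of_genOn ((D.gen y).res (inf_le_right : D.U x ⊓ D.U y ≤ D.U y)) ?_
  rw [← D.u_spec]
  exact (D.gen x).res _

/-- A compatible family of units trivialises a power. -/
theorem Data.trivial_of_units (m : ℕ) (h : ∀ x, Γ(X, D.U x)) (hu : ∀ x, IsUnit (h x))
    (hc : ∀ x y, rs (inf_le_left : D.U x ⊓ D.U y ≤ D.U x) (h x) * D.u x y ^ m =
      rs (inf_le_right : D.U x ⊓ D.U y ≤ D.U y) (h y)) :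
    Nonempty (CohB1.tensorPow L m ≅ Coh.structureModule X) := by
  obtain ⟨s, hs, -⟩ := CubeLib.trivial_of_compatible D.U (fun x => ⟨x, D.mem x⟩)
    (fun x => h x • AmpleThLib.pS (D.e x) m)
    (fun x => CubeLib.genOn_unit_smul (AmpleThLib.pS_genOn (D.gen x) m) (hu x)) fun x y => by
      rw [AmpleLib.res_smul, AmpleLib.res_smul, AmpleThLib.pS_res, AmpleThLib.pS_res, D.u_spec,
        AmpleThLib.pS_smul, smul_smul]
      exact congrArg (· • _) (hc x y)
  exact CubeLib.trivial_of_genOn_top hs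

end TorsLineLib
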