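import Mathlib

/-! A `p`-th root in a finite étale algebra over a normal domain descends. -/

set_option autoImplicit false
universe u

namespace TorsLineLib

open IntermediateField in
theorem exists_root_of_isSeparable {F E : Type*} [Field F] [Field E] [Algebra F E] [Algebra.IsSeparable F E]
    (p : ℕ) [Fact p.Prime] [CharP F p] (x : E) (a : F) (hx : x ^ p = algebraMap F E a) :
    ∃ b : F, algebraMap F E b = x := by
  haveI : ExpChar F p := ExpChar.prime Fact.out
  have h := adjoin_simple_eq_adjoin_pow_expChar_of_isSeparable F E (Algebra.IsSeparable.isSeparable F x) p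
  rw [hx] at h
  have h2 : x ∈ adjoin F {algebraMap F E a} := h ▸ mem_adjoin_simple_self F x
  have h3 : adjoin F {algebraMap F E a} = (⊥ : IntermediateField F E) :=
    adjoin_simple_eq_bot_iff.2 (IntermediateField.algebraMap_mem _ a)
  rw [h3, mem_bot] at h2
  exact h2

theorem exists_root_of_etale (p : ℕ) [Fact p.Prime] {A B : Type u} [CommRing A] [IsDomain A]
    [IsIntegrallyClosed A] [CommRing B] [Algebra A B] [Algebra.FormallyUnramified A B] [Algebra.EssFiniteType A B]
    [CharP A p] (Q : Ideal B) [Q.IsPrime] (hQ : Q.comap (algebraMap A B) = ⊥)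
    (a : A) (s : B) (hs : s ^ p = algebraMap A B a) : ∃ b : A, b ^ p = a := by
  let L := FractionRing (B ⧸ Q)
  let K := FractionRing A
  have hinj : Function.Injective (algebraMap A (B ⧸ Q)) := by
    rw [injective_iff_map_eq_zero]
    intro x hx
    rw [IsScalarTower.algebraMap_apply A B (B ⧸ Q), Ideal.Quotient.algebraMap_eq, Ideal.Quotient.eq_zero_iff_mem] at hx
    exact (Submodule.mem_bot A).1 (hQ ▸ (show x ∈ Q.comap (algebraMap A B) from hx))
  have hinjL : Function.Injective (algebraMap A L) := by
    rw [IsScalarTower.algebraMap_eq A (B ⧸ Q) L]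
    exact (IsFractionRing.injective (B ⧸ Q) L).comp hinj
  haveI : FaithfulSMul A L := (faithfulSMul_iff_algebraMap_injective A L).2 hinjL
  letI : Algebra K L := FractionRing.liftAlgebra A L
  haveI : IsScalarTower A K L := FractionRing.isScalarTower_liftAlgebra A L
  haveI : Algebra.FormallyUnramified B (B ⧸ Q) := inferInstance
  haveI : Algebra.FormallyUnramified A (B ⧸ Q) := Algebra.FormallyUnramified.comp A B (B ⧸ Q)
  haveI : Algebra.FormallyUnramified (B ⧸ Q) L :=
    Algebra.FormallyUnramified.of_isLocalization (nonZeroDivisors (B ⧸ Q))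
  haveI : Algebra.FormallyUnramified A L := Algebra.FormallyUnramified.comp A (B ⧸ Q) L
  haveI : Algebra.FormallyUnramified K L := Algebra.FormallyUnramified.of_restrictScalars A K L
  haveI : Algebra.EssFiniteType A (B ⧸ Q) := Algebra.EssFiniteType.comp A B (B ⧸ Q)
  haveI : Algebra.EssFiniteType (B ⧸ Q) L := Algebra.EssFiniteType.of_isLocalization L (nonZeroDivisors (B ⧸ Q))
  haveI : Algebra.EssFiniteType A L := Algebra.EssFiniteType.comp A (B ⧸ Q) L
  haveI : Algebra.EssFiniteType K L := Algebra.EssFiniteType.of_comp A K L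
  haveI : Algebra.IsSeparable K L := Algebra.FormallyUnramified.isSeparable K L
  haveI : CharP K p := charP_of_injective_algebraMap (IsFractionRing.injective A K) p
  obtain ⟨k, hk⟩ := exists_root_of_isSeparable p (algebraMap B L s) (algebraMap A K a) (by
    rw [← map_pow, hs, ← IsScalarTower.algebraMap_apply A K L, ← IsScalarTower.algebraMap_apply A B L])
  have hk' : k ^ p = algebraMap A K a := by
    apply (algebraMap K L).injective
    rw [map_pow, hk, ← map_pow, hs, ← IsScalarTower.algebraMap_apply A K L, ← IsScalarTower.algebraMap_apply A B L]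
  obtain ⟨b, hb⟩ := IsIntegrallyClosed.exists_algebraMap_eq_of_isIntegral_pow (R := A) (K := K)
    (Fact.out : p.Prime).pos (x := k) (hk' ▸ isIntegral_algebraMap)
  refine ⟨b, IsFractionRing.injective A K ?_⟩
  rw [map_pow, hb, hk']

end TorsLineLib
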