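import Groth.Agent.TorsLineLib.Alg
import Groth.Agent.FinCovLib.Cover
import Groth.Agent.MiscFlat6.LRSConn

/-! The cyclic cover of a torsion line bundle. -/

set_option autoImplicit false
set_option backward.isDefEq.respectTransparency false
universe u

open CategoryTheory CategoryTheory.Limits AlgebraicGeometry TopologicalSpace Opposite
open AmpleLib (GenOn res)
open KFlatLib (puSecLE pb)

noncomputable section

namespace TorsLineLib

variable {X : Scheme.{u}} [IsNoetherian X] {L : X.Modules} {d : ℕ} (D : Cov L d) (hd : 0 < d)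

/-- the cover -/
abbrev Cov.spec : Scheme.{u} := (D.alg hd).spec

/-- the projection -/
abbrev Cov.proj : D.spec hd ⟶ X := (D.alg hd).π

/-- sections of the algebra as functions -/
def Cov.sect (V : X.Opens) : D.sub V →+* Γ(D.spec hd, D.proj hd ⁻¹ᵁ V) :=
  ((CycBdlLib.toF (D.alg hd)).app (op V)).hom

theorem Cov.sect_bijective (V : X.Opens) : Function.Bijective (D.sect hd V) := by
  haveI : IsIso (CycBdlLib.toF (D.alg hd)) := inferInstanceAs (IsIso (inv (D.alg hd).gammaMap))
  exact ConcreteCategory.bijective_of_isIso ((CycBdlLib.toF (D.alg hd)).app (op V))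

theorem Cov.sect_str (V : X.Opens) (r : Γ(X, V)) : D.sect hd V (D.strH V r) = (D.proj hd).app V r :=
  ConcreteCategory.congr_hom (NatTrans.congr_app (CycBdlLib.str_toF (D.alg hd)) (op V)) r

theorem Cov.sect_res {U V : X.Opens} (h : V ≤ U) (z : D.sub U) :
    rs ((D.proj hd).preimage_mono h) (D.sect hd U z) = D.sect hd V (D.resH h z) :=
  (ConcreteCategory.congr_hom ((CycBdlLib.toF (D.alg hd)).naturality (homOfLE h).op) z).symm

theorem Cov.chartEquiv_bijective (i : D.I) :
    Function.Bijective fun v : Fin d → Γ(X, D.U i) => D.sect hd (D.U i) (D.chart i (le_refl (D.U i)) (Kum.ev v)) :=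
  (D.sect_bijective hd _).comp ((D.chart_bijective i le_rfl).comp (Kum.ev_bijective hd _))

theorem Cov.exists_basis (i : D.I) :
    letI := ((D.proj hd).app (D.U i)).hom.toAlgebra
    Nonempty (Module.Basis (Fin d) Γ(X, D.U i) Γ(D.spec hd, D.proj hd ⁻¹ᵁ D.U i)) := by
  letI := ((D.proj hd).app (D.U i)).hom.toAlgebra
  let F : (Fin d → Γ(X, D.U i)) →ₗ[Γ(X, D.U i)] Γ(D.spec hd, D.proj hd ⁻¹ᵁ D.U i) :=
    { toFun := fun v => D.sect hd (D.U i) (D.chart i (le_refl (D.U i)) (Kum.ev v))
      map_add' := fun v w => by rw [Kum.ev_add, map_add, map_add]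
      map_smul' := fun r v => by
        rw [show r • v = fun k => r * v k from rfl, ← Kum.cst_mul_ev, map_mul, map_mul, D.chart_cst, D.sect_str]
        rfl }
  exact ⟨Module.Basis.ofEquivFun (LinearEquiv.ofBijective F (D.chartEquiv_bijective hd i)).symm⟩

theorem Cov.isCover : Mor2.IsFinLocFreeOfDeg d (D.proj hd) :=
  FinCovLib.isCover_of_bases (D.proj hd) d fun x => by
    obtain ⟨i, hi⟩ := D.cov x
    exact ⟨D.U i, D.aff i, hi, D.exists_basis hd i⟩

theorem Cov.iSup_U : ⨆ i, D.U i = ⊤ := eq_top_iff.mpr fun x _ => Opens.mem_iSup.mpr (D.cov x)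

theorem Cov.etale (hu : IsUnit ((d : ℕ) : Γ(X, ⊤))) : Etale (D.proj hd) := by
  have hring : ∀ i, ((D.proj hd).app (D.U i)).hom.Etale := fun i => by
    letI := ((D.proj hd).app (D.U i)).hom.toAlgebra
    have hdu : IsUnit ((d : ℕ) : Γ(X, D.U i)) := by
      simpa using hu.map (rs (le_top : D.U i ≤ ⊤))
    haveI := Kum.etale hd hdu ((D.f_unit i).map (rs (le_refl (D.U i))))
    let φ : Kum.K d (rs (le_refl (D.U i)) (D.f i)) →ₐ[Γ(X, D.U i)] Γ(D.spec hd, D.proj hd ⁻¹ᵁ D.U i) :=
      { (D.sect hd (D.U i)).comp (D.chart i (le_refl (D.U i))) with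
        commutes' := fun r => by
          change D.sect hd (D.U i) (D.chart i le_rfl (Kum.cst r)) = _
          rw [D.chart_cst, D.sect_str]
          rfl }
    exact Algebra.Etale.of_equiv (AlgEquiv.ofBijective φ
      ((D.sect_bijective hd _).comp (D.chart_bijective i le_rfl)))
  refine IsZariskiLocalAtTarget.of_iSup_eq_top (P := @Etale) D.U D.iSup_U fun i => ?_
  have harrow : (D.proj hd) ∣_ D.U i = ((D.aff i).preimage (D.proj hd)).isoSpec.hom ≫
      Spec.map ((D.proj hd).app (D.U i)) ≫ (D.aff i).isoSpec.inv := by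
    rw [← Iso.inv_comp_eq, ← cancel_mono (D.U i).ι, Category.assoc, Category.assoc, morphismRestrict_ι,
      (D.aff i).isoSpec_inv_ι, ((D.aff i).preimage (D.proj hd)).isoSpec_inv_ι_assoc, Scheme.Hom.app_eq_appLE,
      (D.aff i).SpecMap_appLE_fromSpec (D.proj hd) ((D.aff i).preimage (D.proj hd))]
  rw [harrow, MorphismProperty.cancel_left_of_respectsIso @Etale, MorphismProperty.cancel_right_of_respectsIso @Etale,
    HasRingHomProperty.Spec_iff (P := @Etale)]
  exact hring i

/-- the tautological root over `U i` -/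
def Cov.tau (i : D.I) : Γ(D.spec hd, D.proj hd ⁻¹ᵁ D.U i) :=
  D.sect hd (D.U i) (D.chart i (le_refl (D.U i)) Kum.rt)

theorem Cov.tau_unit (i : D.I) : IsUnit (D.tau hd i) := by
  refine (isUnit_pow_iff hd.ne').1 ?_
  rw [Cov.tau, ← map_pow, ← map_pow, Kum.rt_pow, D.chart_cst, D.sect_str]
  exact ((D.f_unit i).map (rs (le_refl (D.U i)))).map _

theorem Cov.tau_rel (i j : D.I) :
    rs ((D.proj hd).preimage_mono (inf_le_left : D.U i ⊓ D.U j ≤ D.U i)) (D.tau hd i) =
      (D.proj hd).app (D.U i ⊓ D.U j) (D.u i j) *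
        rs ((D.proj hd).preimage_mono (inf_le_right : D.U i ⊓ D.U j ≤ D.U j)) (D.tau hd j) := by
  rw [Cov.tau, Cov.tau, D.sect_res hd (inf_le_left : D.U i ⊓ D.U j ≤ D.U i), D.sect_res hd (inf_le_right : D.U i ⊓ D.U j ≤ D.U j), ← D.sect_str, ← map_mul, D.resH_chart, D.resH_chart]
  refine congrArg (D.sect hd _) (D.sub_ext fun k => ?_)
  change _ = (D.strH _ (D.u i j)).1 k * _
  rw [D.chart_apply, D.chart_apply, D.strH_apply, D.Tr_Tr, D.Tr_Tr, Cov.Tr, Cov.Tr, Kum.tm_rt, Kum.tm_rt,
    ← mul_assoc, ← map_mul]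
  congr 2
  exact (D.u_mul i j k _ _ _).symm

theorem Cov.trivial_pullback :
    Nonempty ((Scheme.Modules.pullback (D.proj hd)).obj L ≅ Coh.structureModule (D.spec hd)) := by
  choose ti hti using fun i => (D.tau_unit hd i).exists_left_inv
  obtain ⟨s, hs, -⟩ := CubeLib.trivial_of_compatible (L := pb (D.proj hd) L) (fun i => D.proj hd ⁻¹ᵁ D.U i)
    (fun z => D.cov (D.proj hd z)) (fun i => ti i • puSecLE (D.proj hd) L (le_refl _) (D.e i))
    (fun i => CubeLib.genOn_unit_smul (CubeLib.genOn_puSecLE _ (D.gen i) le_rfl) (IsUnit.of_mul_eq_one _ (hti i)))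
    fun i j => by
      let P := D.proj hd ⁻¹ᵁ (D.U i ⊓ D.U j)
      let hP1 : P ≤ D.proj hd ⁻¹ᵁ D.U i := (D.proj hd).preimage_mono inf_le_left
      let hP2 : P ≤ D.proj hd ⁻¹ᵁ D.U j := (D.proj hd).preimage_mono inf_le_right
      show res _ hP1 _ = res _ hP2 _
      have h1 := congrArg (puSecLE (D.proj hd) L (le_refl P)) (D.u_spec i j)
      rw [KFlatLib.puSecLE_smul, CubeLib.puSecLE_res, CubeLib.puSecLE_res, ← Scheme.Hom.app_eq_appLE,
        ← CubeLib.res_puSecLE (D.proj hd) L (le_refl _) hP1, ← CubeLib.res_puSecLE (D.proj hd) L (le_refl _) hP2] at h1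
      rw [AmpleLib.res_smul, AmpleLib.res_smul, h1, smul_smul]
      congr 1
      have a1 : rs hP1 (ti i) * rs hP1 (D.tau hd i) = 1 := by rw [← map_mul, hti, map_one]
      have a2 : rs hP2 (ti j) * rs hP2 (D.tau hd j) = 1 := by rw [← map_mul, hti, map_one]
      have hrel := D.tau_rel hd i j
      change rs hP1 (ti i) * _ = rs hP2 (ti j)
      calc _ = rs hP1 (ti i) * ((D.proj hd).app (D.U i ⊓ D.U j) (D.u i j)) * (rs hP2 (ti j) * rs hP2 (D.tau hd j)) := by
            rw [a2, mul_one]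
        _ = rs hP2 (ti j) * (rs hP1 (ti i) * (((D.proj hd).app (D.U i ⊓ D.U j) (D.u i j)) * rs hP2 (D.tau hd j))) := by
            ring
        _ = _ := by rw [← hrel, a1, mul_one]
  exact CubeLib.trivial_of_genOn_top hs

include hd in
theorem Cov.top_eq_str [IsIntegral X] (hfield : IsField Γ(X, ⊤))
    (hmin : ∀ i : ℕ, 0 < i → i < d → IsEmpty (CohB1.tensorPow L i ≅ Coh.structureModule X)) (p : D.sub ⊤) :
    ∃ c, p = D.strH ⊤ c := by
  choose v hv using fun i => (Kum.ev_bijective (d := d) hd (rs (inf_le_right : ⊤ ⊓ D.U i ≤ D.U i) (D.f i))).2 (p.1 i)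
  let w : ∀ i, Fin d → Γ(X, D.U i) := fun i k => rs (le_inf le_top le_rfl) (v i k)
  have hw : ∀ i j k, rs (inf_le_right : D.U i ⊓ D.U j ≤ D.U j) (w j k) *
      rs (le_inf inf_le_right inf_le_left : D.U i ⊓ D.U j ≤ D.U j ⊓ D.U i) (D.u j i) ^ (k : ℕ) =
      rs (inf_le_left : D.U i ⊓ D.U j ≤ D.U i) (w i k) := fun i j k => by
    have h := D.mem_Tr p i j (W := D.U i ⊓ D.U j) (le_inf le_top inf_le_left) (le_inf le_top inf_le_right)
    rw [← hv, ← hv, D.Tr_ev, D.Tr_self_ev] at h
    have hk := congrFun (D.ev_inj hd i _ h) k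
    simp only [w, rs_rs]
    exact hk
  have hpos : ∀ k : Fin d, 0 < (k : ℕ) → ∀ i, w i k = 0 := by
    intro k hk
    -- the norm of the component
    let g : ∀ i, Γ(X, D.U i) := fun i => w i k ^ d * D.f i ^ (k : ℕ)
    obtain ⟨c, hc, -⟩ := X.sheaf.existsUnique_gluing' D.U ⊤ (fun i => homOfLE le_top) (D.iSup_U).ge g (fun i j => by
      change rs inf_le_left (g i) = rs inf_le_right (g j)
      simp only [g, map_mul, map_pow, ← hw i j k, ← D.f_rs j i (le_inf inf_le_right inf_le_left) inf_le_right inf_le_left]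
      ring)
    replace hc : ∀ i, rs (le_top : D.U i ≤ ⊤) c = g i := hc
    letI := hfield.toField
    intro i
    by_cases hc0 : c = 0
    · have hg : g i = 0 := by rw [← hc, hc0, map_zero]
      rcases isEmpty_or_nonempty (D.U i) with he | hne
      · haveI : Subsingleton Γ(X, D.U i) := by
          have : D.U i = ⊥ := le_bot_iff.1 fun z hz => (he.false ⟨z, hz⟩).elim
          rw [this]
          exact CommRingCat.subsingleton_of_isTerminal X.sheaf.isTerminalOfEmpty
        exact Subsingleton.elim _ _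
      · exact (pow_eq_zero_iff hd.ne').1 ((mul_eq_zero.1 hg).resolve_right (((D.f_unit i).pow _).ne_zero))
    · exfalso
      have hwu : ∀ i, IsUnit (w i k) := fun i => by
        have hu : IsUnit (g i) := hc i ▸ (Ne.isUnit hc0).map _
        exact (isUnit_pow_iff hd.ne').1 (isUnit_of_mul_isUnit_left hu)
      refine (hmin k hk k.2).false (D.trivial_of_units k (fun i => w i k) hwu fun i j => ?_).some
      rw [← hw i j k, mul_assoc, ← mul_pow]
      have := D.u_mul j i j (W := D.U i ⊓ D.U j) (le_inf inf_le_right inf_le_left) le_rfl (le_inf inf_le_right inf_le_right)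
      rw [D.u_self, rs_refl] at this
      rw [this, one_pow, mul_one]
  obtain ⟨c, hc, -⟩ := X.sheaf.existsUnique_gluing' D.U ⊤ (fun i => homOfLE le_top) (D.iSup_U).ge
    (fun i => w i ⟨0, hd⟩) (fun i j => by
      have := hw i j ⟨0, hd⟩
      rw [pow_zero, mul_one] at this
      exact this.symm)
  replace hc : ∀ i, rs (le_top : D.U i ≤ ⊤) c = w i ⟨0, hd⟩ := hc
  refine ⟨c, D.sub_ext fun i => ?_⟩
  rw [D.strH_apply, Kum.cst_eq_ev hd, ← hv]
  congr 1
  funext k
  have hvw : v i k = rs (inf_le_right : ⊤ ⊓ D.U i ≤ D.U i) (w i k) := by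
    simp only [w, rs_rs]
    exact (rs_refl _).symm
  rw [hvw]
  by_cases hk : (k : ℕ) = 0
  · obtain rfl : k = ⟨0, hd⟩ := Fin.ext hk
    rw [Pi.single_eq_same, ← hc, rs_rs]
  · rw [hpos k (Nat.pos_of_ne_zero hk), map_zero, Pi.single_eq_of_ne (fun h => hk (congrArg Fin.val h))]

theorem Cov.connected [IsIntegral X] (hfield : IsField Γ(X, ⊤))
    (hmin : ∀ i : ℕ, 0 < i → i < d → IsEmpty (CohB1.tensorPow L i ≅ Coh.structureModule X)) :
    ConnectedSpace (D.spec hd) := by
  haveI : PreconnectedSpace (D.spec hd) :=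
    (MiscFlat6.preconnectedSpace_iff_idempotent (D.spec hd).toLocallyRingedSpace).2 fun e he => by
      obtain ⟨p, hp⟩ := (D.sect_bijective hd ⊤).2 e
      obtain ⟨c, rfl⟩ := D.top_eq_str hd hfield hmin p
      letI := hfield.toField
      by_cases hc : c = 0
      · left
        rw [← hp, hc, map_zero, map_zero]
      · right
        have hu : IsUnit e := hp ▸ (((Ne.isUnit hc).map (D.strH ⊤)).map (D.sect hd ⊤))
        exact hu.mul_left_cancel (he.eq.trans (mul_one e).symm)
  obtain ⟨⟨h1, h2, h3⟩, hrk⟩ := D.isCover hd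
  have hsurj : Surjective (D.proj hd) :=
    (Scheme.Hom.one_le_finrank_iff_surjective _).1 fun y => by rw [hrk y]; exact hd
  obtain ⟨z, -⟩ := hsurj.surj (Classical.arbitrary X)
  exact { toNonempty := ⟨z⟩ }

end TorsLineLib
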