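import Groth.Agent.TorsLineLib.Cov
import Groth.Prelude.Def_RelSpec

/-! The algebra `O ⊕ L^{-1} ⊕ ⋯ ⊕ L^{-(d-1)}` of a torsion line bundle. -/

set_option autoImplicit false
set_option backward.isDefEq.respectTransparency false
universe u

open CategoryTheory CategoryTheory.Limits AlgebraicGeometry TopologicalSpace Opposite

noncomputable section

namespace TorsLineLib

variable {X : Scheme.{u}}

theorem rs_refl {U : X.Opens} (a : Γ(X, U)) : rs (le_refl U) a = a :=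
  ConcreteCategory.congr_hom (X.presheaf.map_id (op U)) a

variable {L : X.Modules} {d : ℕ} (D : Cov L d)

/-- the chart algebra over an open in `U i` -/
abbrev Cov.R (i : D.I) {W : X.Opens} (h : W ≤ D.U i) : Type u := Kum.K d (rs h (D.f i))

theorem Cov.tr_aux (i j : D.I) {W W' : X.Opens} (hW : W ≤ W') (hi : W' ≤ D.U i) (hj : W ≤ D.U j) :
    rs (le_inf (hW.trans hi) hj) (D.u i j) ^ d * rs hj (D.f j) = rs hW (rs hi (D.f i)) := by
  rw [rs_rs]
  exact D.f_rs i j _ _ hj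

/-- transport `R i W' → R j W` -/
def Cov.Tr (i j : D.I) {W W' : X.Opens} (hW : W ≤ W') (hi : W' ≤ D.U i) (hj : W ≤ D.U j) :
    D.R i hi →+* D.R j hj :=
  Kum.tm (rs hW) (rs (le_inf (hW.trans hi) hj) (D.u i j)) (D.tr_aux i j hW hi hj)

theorem Cov.Tr_cst (i j : D.I) {W W' : X.Opens} (hW : W ≤ W') (hi : W' ≤ D.U i) (hj : W ≤ D.U j) (r : Γ(X, W')) :
    D.Tr i j hW hi hj (Kum.cst r) = Kum.cst (rs hW r) := Kum.tm_cst _ _ _ r

theorem Cov.Tr_ev (i j : D.I) {W W' : X.Opens} (hW : W ≤ W') (hi : W' ≤ D.U i) (hj : W ≤ D.U j)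
    (v : Fin d → Γ(X, W')) :
    D.Tr i j hW hi hj (Kum.ev v) = Kum.ev fun k => rs hW (v k) * rs (le_inf (hW.trans hi) hj) (D.u i j) ^ (k : ℕ) :=
  Kum.tm_ev _ _ _ v

theorem Cov.Tr_Tr (i j k : D.I) {W W' W'' : X.Opens} (hW : W ≤ W') (hW' : W' ≤ W'') (hi : W'' ≤ D.U i)
    (hj : W' ≤ D.U j) (hk : W ≤ D.U k) (x : D.R i hi) :
    D.Tr j k hW hj hk (D.Tr i j hW' hi hj x) = D.Tr i k (hW.trans hW') hi hk x := by
  refine Kum.tm_tm _ _ _ _ _ _ (fun r => rs_rs _ _ r) ?_ x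
  rw [rs_rs]
  exact D.u_mul i j k _ _ _

theorem Cov.Tr_self (i : D.I) {W : X.Opens} (hi : W ≤ D.U i) (x : D.R i hi) : D.Tr i i le_rfl hi hi x = x :=
  Kum.tm_id _ rs_refl _ (D.u_self i _) _ x

/-- tuples -/
abbrev Cov.Tup (V : X.Opens) : Type u := ∀ i, D.R i (inf_le_right : V ⊓ D.U i ≤ D.U i)

/-- compatible tuples -/
def Cov.sub (V : X.Opens) : Subring (D.Tup V) :=
  ⨅ p : D.I × D.I, RingHom.eqLocus
    ((D.Tr p.2 p.1 (le_inf (inf_le_left.trans inf_le_left) inf_le_right :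
      (V ⊓ D.U p.1) ⊓ D.U p.2 ≤ V ⊓ D.U p.2) inf_le_right (inf_le_left.trans inf_le_right)).comp (Pi.evalRingHom _ p.2))
    ((D.Tr p.1 p.1 (inf_le_left : (V ⊓ D.U p.1) ⊓ D.U p.2 ≤ V ⊓ D.U p.1) inf_le_right
      (inf_le_left.trans inf_le_right)).comp (Pi.evalRingHom _ p.1))

theorem Cov.mem_sub {V : X.Opens} {p : D.Tup V} :
    p ∈ D.sub V ↔ ∀ i j, D.Tr j i (le_inf (inf_le_left.trans inf_le_left) inf_le_right :
      (V ⊓ D.U i) ⊓ D.U j ≤ V ⊓ D.U j) inf_le_right (inf_le_left.trans inf_le_right) (p j) =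
      D.Tr i i (inf_le_left : (V ⊓ D.U i) ⊓ D.U j ≤ V ⊓ D.U i) inf_le_right (inf_le_left.trans inf_le_right) (p i) := by
  rw [Cov.sub, Subring.mem_iInf]
  exact ⟨fun h i j => h (i, j), fun h q => h q.1 q.2⟩

theorem Cov.mem_Tr {V : X.Opens} (p : D.sub V) (i j : D.I) {W : X.Opens} (hi : W ≤ V ⊓ D.U i) (hj : W ≤ V ⊓ D.U j) :
    D.Tr j i hj inf_le_right (hi.trans inf_le_right) (p.1 j) = D.Tr i i hi inf_le_right (hi.trans inf_le_right) (p.1 i) := by
  have h := congrArg (D.Tr i i (le_inf hi (hj.trans inf_le_right) : W ≤ (V ⊓ D.U i) ⊓ D.U j)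
    (inf_le_left.trans inf_le_right) (hi.trans inf_le_right)) ((D.mem_sub).1 p.2 i j)
  rw [D.Tr_Tr, D.Tr_Tr] at h
  exact h

/-- restriction -/
def Cov.resH {V V' : X.Opens} (h : V' ≤ V) : D.sub V →+* D.sub V' :=
  ((Pi.ringHom fun i => (D.Tr i i (inf_le_inf_right _ h) inf_le_right inf_le_right).comp
    (Pi.evalRingHom _ i)).comp (D.sub V).subtype).codRestrict _ fun p => (D.mem_sub).2 fun i j => by
    refine (D.Tr_Tr _ _ _ _ _ _ _ _ _).trans ((D.mem_Tr p i j ?_ _).trans (D.Tr_Tr _ _ _ _ _ _ _ _ _).symm)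
    exact inf_le_left.trans (inf_le_inf_right _ h)

theorem Cov.resH_apply {V V' : X.Opens} (h : V' ≤ V) (p : D.sub V) (i : D.I) :
    (D.resH h p).1 i = D.Tr i i (inf_le_inf_right _ h) inf_le_right inf_le_right (p.1 i) := rfl

/-- the structure map -/
def Cov.strH (V : X.Opens) : Γ(X, V) →+* D.sub V :=
  (Pi.ringHom fun i => Kum.cst.comp (rs (inf_le_left : V ⊓ D.U i ≤ V))).codRestrict _ fun r => (D.mem_sub).2 fun i j => by
    change D.Tr j i _ _ _ (Kum.cst _) = D.Tr i i _ _ _ (Kum.cst _)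
    rw [D.Tr_cst, D.Tr_cst, rs_rs, rs_rs]

theorem Cov.strH_apply {V : X.Opens} (r : Γ(X, V)) (i : D.I) :
    (D.strH V r).1 i = Kum.cst (rs (inf_le_left : V ⊓ D.U i ≤ V) r) := rfl

theorem Cov.sub_ext {V : X.Opens} {p q : D.sub V} (h : ∀ i, p.1 i = q.1 i) : p = q := Subtype.ext (funext h)

/-- the presheaf -/
def Cov.presheaf : TopCat.Presheaf CommRingCat.{u} X.carrier where
  obj V := CommRingCat.of (D.sub V.unop)
  map {V V'} h := CommRingCat.ofHom (D.resH h.unop.le)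
  map_id V := CommRingCat.hom_ext (RingHom.ext fun p => D.sub_ext fun i => D.Tr_self i _ _)
  map_comp f g := CommRingCat.hom_ext (RingHom.ext fun p => D.sub_ext fun i => (D.Tr_Tr _ _ _ _ _ _ _ _ _).symm)

/-- the structure map of presheaves -/
def Cov.strHom : X.presheaf ⟶ D.presheaf where
  app V := CommRingCat.ofHom (D.strH V.unop)
  naturality V V' h := by
    refine CommRingCat.hom_ext (RingHom.ext fun r => D.sub_ext fun i => ?_)
    change Kum.cst (rs (inf_le_left : V'.unop ⊓ D.U i ≤ V'.unop) (rs h.unop.le r)) =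
      D.Tr i i (inf_le_inf_right (D.U i) h.unop.le) inf_le_right inf_le_right
        (Kum.cst (rs (inf_le_left : V.unop ⊓ D.U i ≤ V.unop) r))
    rw [D.Tr_cst, rs_rs, rs_rs]

variable (hd : 0 < d)

include hd in
theorem Cov.ev_inj (i : D.I) {W : X.Opens} (h : W ≤ D.U i) {v w : Fin d → Γ(X, W)}
    (e : (Kum.ev v : D.R i h) = Kum.ev w) : v = w := (Kum.ev_bijective hd _).1 e

theorem Cov.Tr_self_ev (i : D.I) {W W' : X.Opens} (hW : W ≤ W') (hi : W' ≤ D.U i) (hj : W ≤ D.U i)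
    (v : Fin d → Γ(X, W')) : D.Tr i i hW hi hj (Kum.ev v) = Kum.ev fun k => rs hW (v k) := by
  rw [D.Tr_ev]
  congr 1
  funext k
  rw [D.u_self, one_pow, mul_one]

include hd in
theorem Cov.isSheaf : D.presheaf.IsSheaf := by
  rw [TopCat.Presheaf.isSheaf_iff_isSheafUniqueGluing]
  intro κ U sf cpt
  choose v hv using fun a i => (Kum.ev_bijective (d := d) hd (rs (inf_le_right : U a ⊓ D.U i ≤ D.U i) (D.f i))).2 ((sf a).1 i)
  have hglue : ∀ i k, ∃! s : Γ(X, iSup U ⊓ D.U i),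
      ∀ a, rs (inf_le_inf_right (D.U i) (le_iSup U a)) s = v a i k := by
    intro i k
    refine X.sheaf.existsUnique_gluing' (fun a => U a ⊓ D.U i) (iSup U ⊓ D.U i)
      (fun a => homOfLE (inf_le_inf_right _ (le_iSup U a))) (iSup_inf_eq U (D.U i)).le (fun a => v a i k) fun a b => ?_
    have h := congrArg (fun q : D.sub (U a ⊓ U b) => q.1 i) (cpt a b)
    change (D.resH (inf_le_left : U a ⊓ U b ≤ U a) (sf a)).1 i = (D.resH (inf_le_right : U a ⊓ U b ≤ U b) (sf b)).1 i at h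
    rw [D.resH_apply, D.resH_apply, ← hv, ← hv, D.Tr_self_ev, D.Tr_self_ev] at h
    have hk := congrArg (rs (le_inf (le_inf (inf_le_left.trans inf_le_left) (inf_le_right.trans inf_le_left))
      (inf_le_left.trans inf_le_right) : (U a ⊓ D.U i) ⊓ (U b ⊓ D.U i) ≤ (U a ⊓ U b) ⊓ D.U i))
      (congrFun (D.ev_inj hd i _ h) k)
    rw [rs_rs, rs_rs] at hk
    exact hk
  choose w hw hwu using fun i k => (hglue i k)
  have hmem : (fun i => (Kum.ev fun k => w i k : D.R i (inf_le_right : iSup U ⊓ D.U i ≤ D.U i))) ∈ D.sub (iSup U) := by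
    refine (D.mem_sub).2 fun i j => ?_
    rw [D.Tr_ev, D.Tr_self_ev]
    congr 1
    funext k
    refine TopCat.Sheaf.eq_of_locally_eq' X.sheaf (fun a => (U a ⊓ D.U i) ⊓ D.U j) _
      (fun a => homOfLE (inf_le_inf_right _ (inf_le_inf_right _ (le_iSup U a)))) (by
        rw [← iSup_inf_eq, ← iSup_inf_eq]) _ _ fun a => ?_
    change rs _ (_ * _) = rs _ (rs _ (w i k))
    rw [map_mul, map_pow, rs_rs, rs_rs, rs_rs]
    have h := (D.mem_sub).1 (sf a).2 i j
    rw [← hv, ← hv, D.Tr_ev, D.Tr_self_ev] at h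
    have hk := congrFun (D.ev_inj hd i _ h) k
    rw [← hw j k a, ← hw i k a, rs_rs, rs_rs] at hk
    exact hk
  refine ⟨⟨_, hmem⟩, fun a => D.sub_ext fun i => ?_, fun t ht => D.sub_ext fun i => ?_⟩
  · change D.Tr i i _ _ _ (Kum.ev fun k => w i k) = (sf a).1 i
    rw [D.Tr_self_ev, ← hv]
    congr 1
    funext k
    exact hw i k a
  · obtain ⟨z, hz⟩ := (Kum.ev_bijective (d := d) hd (rs (inf_le_right : iSup U ⊓ D.U i ≤ D.U i) (D.f i))).2 (t.1 i)
    rw [← hz]
    congr 1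
    funext k
    refine hwu i k (z k) fun a => ?_
    have h := congrArg (fun q : D.sub (U a) => q.1 i) (ht a)
    change D.Tr i i _ _ _ (t.1 i) = (sf a).1 i at h
    rw [← hz, ← hv, D.Tr_self_ev] at h
    exact congrFun (D.ev_inj hd i _ h) k

theorem exists_ext_qcqs [IsNoetherian X] {W D' : X.Opens} (r : Γ(X, W)) (e : D' = X.basicOpen r) (h : D' ≤ W)
    (z : Γ(X, D')) : ∃ (n : ℕ) (a : Γ(X, W)), rs h r ^ n * z = rs h a := by
  subst e
  obtain ⟨n, a, ha⟩ := @IsLocalization.Away.surj _ _ _ _ (X.presheaf.map (homOfLE (X.basicOpen_le r)).op).hom.toAlgebra r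
    (isLocalization_basicOpen_of_qcqs (TopologicalSpace.NoetherianSpace.isCompact _) (IsQuasiSeparated.of_quasiSeparatedSpace _) r) z
  exact ⟨n, a, (mul_comm _ _).trans ha⟩

theorem exists_eq_qcqs [IsNoetherian X] {W D' : X.Opens} (r : Γ(X, W)) (e : D' = X.basicOpen r) (h : D' ≤ W)
    {a b : Γ(X, W)} (hab : rs h a = rs h b) : ∃ n : ℕ, r ^ n * a = r ^ n * b := by
  subst e
  exact @IsLocalization.Away.exists_of_eq _ _ _ _ (X.presheaf.map (homOfLE (X.basicOpen_le r)).op).hom.toAlgebra r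
    (isLocalization_basicOpen_of_qcqs (TopologicalSpace.NoetherianSpace.isCompact _) (IsQuasiSeparated.of_quasiSeparatedSpace _) r) _ _ hab

theorem rs_mul_self {W W' : X.Opens} {h h' : W ≤ W'} (a : Γ(X, W')) : rs h a = rs h' a := rfl

include hd in
theorem Cov.isQC [IsNoetherian X] : RelSpec.IsQC D.presheaf D.strHom := by
  intro U hU r
  have hDU : X.basicOpen r ≤ U := X.basicOpen_le r
  have hbo : ∀ W : X.Opens, X.basicOpen r ⊓ W = X.basicOpen (rs (inf_le_left : U ⊓ W ≤ U) r) := fun W => by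
    rw [Scheme.basicOpen_res, inf_assoc, inf_comm W, ← inf_assoc, inf_eq_right.2 hDU]
  letI : Algebra (D.sub U) (D.sub (X.basicOpen r)) := (D.resH hDU).toAlgebra
  change IsLocalization.Away (D.strH U r) (D.sub (X.basicOpen r))
  let r' : ∀ i : D.I, Γ(X, U ⊓ D.U i) := fun i => rs (inf_le_left : U ⊓ D.U i ≤ U) r
  refine IsLocalization.Away.mk _ ?_ ?_ ?_
  · have h1 : D.resH hDU (D.strH U r) = D.strH (X.basicOpen r) (rs hDU r) := D.sub_ext fun i => by
      rw [D.resH_apply, D.strH_apply, D.strH_apply, D.Tr_cst, rs_rs, rs_rs]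
    change IsUnit (D.resH hDU (D.strH U r))
    rw [h1]
    exact (RingedSpace.isUnit_res_basicOpen X.toRingedSpace r).map _
  · intro z
    choose zc hzc using fun i => (Kum.ev_bijective (d := d) hd (rs (inf_le_right : X.basicOpen r ⊓ D.U i ≤ D.U i) (D.f i))).2 (z.1 i)
    choose n a ha using fun i k => exists_ext_qcqs (r' i) (hbo (D.U i)) (inf_le_inf_right _ hDU) (zc i k)
    let N := Finset.univ.sup fun q : D.I × Fin d => n q.1 q.2
    have hN : ∀ i k, n i k ≤ N := fun i k => Finset.le_sup (f := fun q : D.I × Fin d => n q.1 q.2) (Finset.mem_univ (i, k))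
    let a' : ∀ i, Fin d → Γ(X, U ⊓ D.U i) := fun i k => r' i ^ (N - n i k) * a i k
    have ha' : ∀ i k, rs (inf_le_inf_right (D.U i) hDU) (a' i k) = rs (inf_le_inf_right _ hDU) (r' i) ^ N * zc i k :=
      fun i k => by
        rw [map_mul, map_pow, ← ha i k, ← mul_assoc, ← pow_add, Nat.sub_add_cancel (hN i k)]
    -- compatibility up to a power of `r`
    have hc : ∀ i j k, ∃ m : ℕ,
        rs ((inf_le_left.trans inf_le_left) : (U ⊓ D.U i) ⊓ D.U j ≤ U) r ^ m *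
            (rs (le_inf (inf_le_left.trans inf_le_left) inf_le_right : (U ⊓ D.U i) ⊓ D.U j ≤ U ⊓ D.U j) (a' j k) *
              rs (le_inf inf_le_right (inf_le_left.trans inf_le_right) : (U ⊓ D.U i) ⊓ D.U j ≤ D.U j ⊓ D.U i) (D.u j i) ^ (k : ℕ)) =
          rs ((inf_le_left.trans inf_le_left) : (U ⊓ D.U i) ⊓ D.U j ≤ U) r ^ m *
            rs (inf_le_left : (U ⊓ D.U i) ⊓ D.U j ≤ U ⊓ D.U i) (a' i k) := by
      intro i j k
      refine exists_eq_qcqs _ (D' := (X.basicOpen r ⊓ D.U i) ⊓ D.U j) ?_ (inf_le_inf_right _ (inf_le_inf_right _ hDU)) ?_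
      · rw [Scheme.basicOpen_res]
        conv_lhs => rw [← inf_eq_right.2 hDU]
        ac_rfl
      · have h := (D.mem_sub).1 z.2 i j
        rw [← hzc, ← hzc, D.Tr_ev, D.Tr_self_ev] at h
        have hk := congrFun (D.ev_inj hd i _ h) k
        have e1 := congrArg (rs (le_inf (inf_le_left.trans inf_le_left) inf_le_right :
          (X.basicOpen r ⊓ D.U i) ⊓ D.U j ≤ X.basicOpen r ⊓ D.U j)) (ha' j k)
        have e2 := congrArg (rs (inf_le_left : (X.basicOpen r ⊓ D.U i) ⊓ D.U j ≤ X.basicOpen r ⊓ D.U i)) (ha' i k)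
        simp only [map_mul, map_pow, rs_rs, r'] at e1 e2 ⊢
        rw [e1, e2, mul_assoc, hk]
    choose m hm using hc
    let M := Finset.univ.sup fun q : D.I × D.I × Fin d => m q.1 q.2.1 q.2.2
    have hM : ∀ i j k, m i j k ≤ M := fun i j k =>
      Finset.le_sup (f := fun q : D.I × D.I × Fin d => m q.1 q.2.1 q.2.2) (Finset.mem_univ (i, j, k))
    have hmem : (fun i => (Kum.ev fun k => r' i ^ M * a' i k : D.R i (inf_le_right : U ⊓ D.U i ≤ D.U i))) ∈ D.sub U := by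
      refine (D.mem_sub).2 fun i j => ?_
      rw [D.Tr_ev, D.Tr_self_ev]
      congr 1
      funext k
      simp only [map_mul, map_pow, rs_rs, r']
      obtain ⟨l, hl⟩ := Nat.exists_eq_add_of_le (hM i j k)
      have h := hm i j k
      skip
      rw [hl, pow_add, mul_comm (_ ^ m i j k), mul_assoc, mul_assoc, mul_assoc, h]
    refine ⟨M + N, ⟨_, hmem⟩, ?_⟩
    change z * D.resH hDU (D.strH U r) ^ (M + N) = D.resH hDU ⟨_, hmem⟩
    rw [mul_comm]
    refine D.sub_ext fun i => ?_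
    change (D.resH hDU (D.strH U r)).1 i ^ (M + N) * z.1 i = (D.resH hDU ⟨_, hmem⟩).1 i
    rw [D.resH_apply, D.resH_apply, D.strH_apply, D.Tr_cst, ← map_pow, ← hzc, Kum.cst_mul_ev]
    change _ = D.Tr i i _ _ _ (Kum.ev fun k => r' i ^ M * a' i k)
    rw [D.Tr_self_ev]
    congr 1
    funext k
    rw [map_mul, map_pow, ha' i k, pow_add, mul_assoc]
  · intro p q hpq
    have hpq' : ∀ i, D.Tr i i (inf_le_inf_right _ hDU) inf_le_right inf_le_right (p.1 i) =
        D.Tr i i (inf_le_inf_right _ hDU) inf_le_right inf_le_right (q.1 i) :=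
      fun i => congrArg (fun t : D.sub (X.basicOpen r) => t.1 i) hpq
    choose pc hpc using fun i => (Kum.ev_bijective (d := d) hd (rs (inf_le_right : U ⊓ D.U i ≤ D.U i) (D.f i))).2 (p.1 i)
    choose qc hqc using fun i => (Kum.ev_bijective (d := d) hd (rs (inf_le_right : U ⊓ D.U i ≤ D.U i) (D.f i))).2 (q.1 i)
    have heq : ∀ i k, ∃ m : ℕ, r' i ^ m * pc i k = r' i ^ m * qc i k := fun i k => by
      refine exists_eq_qcqs (r' i) (hbo (D.U i)) (inf_le_inf_right _ hDU) ?_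
      have h := hpq' i
      rw [← hpc, ← hqc, D.Tr_self_ev, D.Tr_self_ev] at h
      exact congrFun (D.ev_inj hd i _ h) k
    choose m hm using heq
    refine ⟨Finset.univ.sup fun q : D.I × Fin d => m q.1 q.2, ?_⟩
    rw [← map_pow]
    refine D.sub_ext fun i => ?_
    change (D.strH U _).1 i * p.1 i = (D.strH U _).1 i * q.1 i
    rw [D.strH_apply, ← hpc, ← hqc, Kum.cst_mul_ev, Kum.cst_mul_ev, map_pow]
    congr 1
    funext k
    obtain ⟨l, hl⟩ := Nat.exists_eq_add_of_le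
      (Finset.le_sup (f := fun q : D.I × Fin d => m q.1 q.2) (Finset.mem_univ (i, k)))
    rw [hl, pow_add, mul_comm (_ ^ m i k), mul_assoc, mul_assoc, hm i k]

/-- the algebra -/
def Cov.alg [IsNoetherian X] : RelSpec.QCAlg X where
  presheaf := D.presheaf
  isSheaf := D.isSheaf hd
  str := D.strHom
  isQC := D.isQC hd

/-! ### The chart over `U i` -/

variable {V : X.Opens} (i₀ : D.I) (hV : V ≤ D.U i₀)

/-- the chart map -/
def Cov.chart : D.R i₀ hV →+* D.sub V :=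
  (Pi.ringHom fun j => D.Tr i₀ j (inf_le_left : V ⊓ D.U j ≤ V) hV inf_le_right).codRestrict _ fun x => (D.mem_sub).2 fun i j => by
    change D.Tr j i _ _ _ (D.Tr i₀ j _ _ _ x) = D.Tr i i _ _ _ (D.Tr i₀ i _ _ _ x)
    rw [D.Tr_Tr, D.Tr_Tr]

theorem Cov.chart_apply (x : D.R i₀ hV) (j : D.I) :
    (D.chart i₀ hV x).1 j = D.Tr i₀ j inf_le_left hV inf_le_right x := rfl

theorem Cov.chart_cst (r : Γ(X, V)) : D.chart i₀ hV (Kum.cst r) = D.strH V r :=
  D.sub_ext fun j => by rw [D.chart_apply, D.strH_apply, D.Tr_cst]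

theorem Cov.chart_bijective : Function.Bijective (D.chart i₀ hV) := by
  refine ⟨fun x y h => ?_, fun p => ?_⟩
  · have h0 := congrArg (fun p : D.sub V => D.Tr i₀ i₀ (le_inf le_rfl hV : V ≤ V ⊓ D.U i₀) inf_le_right hV (p.1 i₀)) h
    simp only [D.chart_apply, D.Tr_Tr] at h0
    rwa [D.Tr_self, D.Tr_self] at h0
  · refine ⟨D.Tr i₀ i₀ (le_inf le_rfl hV : V ≤ V ⊓ D.U i₀) inf_le_right hV (p.1 i₀), D.sub_ext fun j => ?_⟩
    rw [D.chart_apply, D.Tr_Tr]
    exact (D.mem_Tr p j i₀ le_rfl (le_inf inf_le_left (inf_le_left.trans hV))).trans (D.Tr_self j _ _)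

theorem Cov.resH_chart {V' : X.Opens} (h : V' ≤ V) (x : D.R i₀ hV) :
    D.resH h (D.chart i₀ hV x) = D.chart i₀ (h.trans hV) (D.Tr i₀ i₀ h hV (h.trans hV) x) :=
  D.sub_ext fun j => by
    rw [D.resH_apply, D.chart_apply, D.chart_apply, D.Tr_Tr, D.Tr_Tr]

end TorsLineLib
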