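import Mathlib

/-! The algebras `R[T]/(T^d - a)`. -/

set_option autoImplicit false
universe u

open Polynomial

noncomputable section

namespace TorsLineLib.Kum

variable {R S U : Type u} [CommRing R] [CommRing S] [CommRing U] {d : ℕ}

abbrev pol (d : ℕ) (a : R) : R[X] := X ^ d - C a

/-- `R[T]/(T^d - a)` -/
abbrev K (d : ℕ) (a : R) : Type u := AdjoinRoot (pol d a)

abbrev cst {a : R} : R →+* K d a := AdjoinRoot.of (pol d a)

abbrev rt {a : R} : K d a := AdjoinRoot.root (pol d a)

theorem rt_pow {a : R} : (rt : K d a) ^ d = cst a := by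
  have h := AdjoinRoot.eval₂_root (pol d a)
  rw [eval₂_sub, eval₂_X_pow, eval₂_C, sub_eq_zero] at h
  exact h

/-- `T ↦ c T` over `φ` -/
def tm {a : R} {b : S} (φ : R →+* S) (c : S) (h : c ^ d * b = φ a) : K d a →+* K d b :=
  AdjoinRoot.lift (cst.comp φ) (cst c * rt) (by
    rw [eval₂_sub, eval₂_X_pow, eval₂_C, mul_pow, rt_pow, ← map_pow, ← map_mul, h, RingHom.comp_apply, sub_self])

@[simp] theorem tm_cst {a : R} {b : S} (φ : R →+* S) (c : S) (h : c ^ d * b = φ a) (r : R) :
    tm φ c h (cst r) = cst (φ r) := AdjoinRoot.lift_of _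

@[simp] theorem tm_rt {a : R} {b : S} (φ : R →+* S) (c : S) (h : c ^ d * b = φ a) :
    tm φ c h rt = cst c * rt := AdjoinRoot.lift_root _

theorem hom_ext {a : R} {f g : K d a →+* U} (h₁ : ∀ r, f (cst r) = g (cst r)) (h₂ : f rt = g rt) : f = g := by
  refine RingHom.ext fun x => ?_
  obtain ⟨p, rfl⟩ := AdjoinRoot.mk_surjective x
  induction p using Polynomial.induction_on' with
  | add p q hp hq => rw [map_add, map_add, map_add, hp, hq]
  | monomial n r =>
    rw [← C_mul_X_pow_eq_monomial, map_mul, map_pow, AdjoinRoot.mk_C, AdjoinRoot.mk_X, map_mul, map_mul,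
      map_pow, map_pow, h₁, h₂]

theorem tm_comp {a : R} {b : S} {b' : U} (φ : R →+* S) (ψ : S →+* U) (χ : R →+* U) {c : S} {c' c'' : U}
    (h : c ^ d * b = φ a) (h' : c' ^ d * b' = ψ b) (h'' : c'' ^ d * b' = χ a)
    (hχ : ∀ r, ψ (φ r) = χ r) (hc : ψ c * c' = c'') :
    (tm ψ c' h').comp (tm φ c h) = tm χ c'' h'' := by
  refine hom_ext (fun r => by simp [hχ]) ?_
  simp [← hc, mul_assoc]

theorem tm_tm {a : R} {b : S} {b' : U} (φ : R →+* S) (ψ : S →+* U) (χ : R →+* U) {c : S} {c' c'' : U}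
    (h : c ^ d * b = φ a) (h' : c' ^ d * b' = ψ b) (h'' : c'' ^ d * b' = χ a)
    (hχ : ∀ r, ψ (φ r) = χ r) (hc : ψ c * c' = c'') (x : K d a) :
    tm ψ c' h' (tm φ c h x) = tm χ c'' h'' x :=
  congr($(tm_comp φ ψ χ h h' h'' hχ hc) x)

theorem tm_congr {a : R} {b : S} {φ φ' : R →+* S} {c c' : S} {h : c ^ d * b = φ a} {h' : c' ^ d * b = φ' a}
    (hφ : ∀ r, φ r = φ' r) (hc : c = c') (x : K d a) : tm φ c h x = tm φ' c' h' x := by
  obtain rfl : φ = φ' := RingHom.ext hφ
  subst hc
  rfl

theorem tm_id {a : R} (φ : R →+* R) (hφ : ∀ r, φ r = r) (c : R) (hc : c = 1) (h : c ^ d * a = φ a) (x : K d a) :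
    tm φ c h x = x := by
  have : tm φ c h = RingHom.id (K d a) := hom_ext (fun r => by simp [hφ]) (by simp [hc])
  exact congr($this x)

/-- coefficients to elements -/
def ev {a : R} (v : Fin d → R) : K d a := ∑ k, cst (v k) * rt ^ (k : ℕ)

theorem tm_ev {a : R} {b : S} (φ : R →+* S) (c : S) (h : c ^ d * b = φ a) (v : Fin d → R) :
    tm φ c h (ev v) = ev fun k => φ (v k) * c ^ (k : ℕ) := by
  rw [ev, map_sum]
  refine Finset.sum_congr rfl fun k _ => ?_
  rw [map_mul, map_pow, tm_cst, tm_rt, mul_pow, ← map_pow, ← mul_assoc, ← map_mul]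

theorem ev_bijective (hd : 0 < d) (a : R) : Function.Bijective (ev : (Fin d → R) → K d a) := by
  rcases subsingleton_or_nontrivial R with hR | hR
  · haveI : Subsingleton (K d a) := subsingleton_of_zero_eq_one
      ((map_zero (cst : R →+* K d a)).symm.trans ((congrArg cst (Subsingleton.elim (0 : R) 1)).trans (map_one _)))
    exact ⟨fun _ _ _ => Subsingleton.elim _ _, fun y => ⟨0, Subsingleton.elim _ _⟩⟩
  · have hm : (pol d a).Monic := monic_X_pow_sub_C a hd.ne'
    have hn : (pol d a).natDegree = d := natDegree_X_pow_sub_C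
    let pb := AdjoinRoot.powerBasis' hm
    let b : Module.Basis (Fin d) R (K d a) := pb.basis.reindex (finCongr hn)
    have hb : ∀ v : Fin d → R, b.equivFun.symm v = ev v := fun v => by
      rw [Module.Basis.equivFun_symm_apply, ev]
      refine Finset.sum_congr rfl fun k _ => ?_
      rw [Algebra.smul_def, Module.Basis.reindex_apply, PowerBasis.basis_eq_pow]
      rfl
    exact (funext hb : _ = (ev : (Fin d → R) → K d a)) ▸ b.equivFun.symm.bijective

theorem ev_add {a : R} (v w : Fin d → R) : (ev (v + w) : K d a) = ev v + ev w := by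
  simp [ev, Finset.sum_add_distrib, map_add, add_mul]

theorem cst_mul_ev {a : R} (r : R) (v : Fin d → R) : (cst r * ev v : K d a) = ev fun k => r * v k := by
  simp [ev, Finset.mul_sum, map_mul, mul_assoc]

theorem cst_eq_ev (hd : 0 < d) {a : R} (r : R) : (cst r : K d a) = ev (Pi.single ⟨0, hd⟩ r) := by
  rw [ev, Finset.sum_eq_single (⟨0, hd⟩ : Fin d)]
  · simp
  · intro k _ hk; simp [hk]
  · simp

/-- separable when `d` and `a` are units -/
theorem etale {a : R} (hd0 : 0 < d) (hd : IsUnit ((d : ℕ) : R)) (ha : IsUnit a) : Algebra.Etale R (K d a) := by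
  obtain ⟨ai, hai⟩ := ha.exists_left_inv
  obtain ⟨di, hdi⟩ := hd.exists_left_inv
  let P : StandardEtalePair R :=
    { f := pol d a
      monic_f := monic_X_pow_sub_C a hd0.ne'
      g := 1
      cond := ⟨X * C (di * ai), -C ai, 0, by
        have e : (X : R[X]) ^ (d - 1) * X = X ^ d := by rw [← pow_succ, Nat.sub_add_cancel hd0]
        rw [pow_zero, pol, derivative_sub, derivative_X_pow, derivative_C, sub_zero]
        have h1 : C ai * C a = (1 : R[X]) := by rw [← map_mul, hai, map_one]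
        have h2 : C di * C (d : R) = (1 : R[X]) := by rw [← map_mul, hdi, map_one]
        rw [map_mul]
        linear_combination (C di * C ai * C (d : R)) * e + (C ai * X ^ d) * h2 + h1⟩ }
  exact Algebra.Etale.of_equiv (P.equivAwayAdjoinRoot.trans
    ((IsLocalization.atUnit (AdjoinRoot P.f) (Localization.Away (AdjoinRoot.mk P.f P.g))
      (AdjoinRoot.mk P.f P.g) (by simp [P])).symm.restrictScalars R))

end TorsLineLib.Kum
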