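import Groth.Agent.TorsLineLib.Cocycle
import Groth.Agent.TorsLineLib.Kum

/-! A finite cocycle of a torsion line bundle. -/

set_option autoImplicit false
universe u

open CategoryTheory CategoryTheory.Limits AlgebraicGeometry TopologicalSpace Opposite
open AmpleLib (GenOn res)

noncomputable section

namespace TorsLineLib

variable {X : Scheme.{u}}

/-- Finitely many affine charts with generators. -/
structure Cov (L : X.Modules) (d : ℕ) where
  I : Type u
  fin : Fintype I
  U : I → X.Opens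
  cov : ∀ x, ∃ i, x ∈ U i
  aff : ∀ i, IsAffineOpen (U i)
  e : ∀ i, Γ(L, U i)
  gen : ∀ i, GenOn L (e i)
  u : ∀ i j, Γ(X, U i ⊓ U j)
  u_spec : ∀ i j, res L (inf_le_left : U i ⊓ U j ≤ U i) (e i) = u i j • res L (inf_le_right : U i ⊓ U j ≤ U j) (e j)
  f : ∀ i, Γ(X, U i)
  f_unit : ∀ i, IsUnit (f i)
  f_spec : ∀ i j, rs (inf_le_left : U i ⊓ U j ≤ U i) (f i) = u i j ^ d * rs (inf_le_right : U i ⊓ U j ≤ U j) (f j)

theorem exists_cov [CompactSpace X] (L : X.Modules) (hL : PicF.IsInvertible L) (d : ℕ)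
    (hord : Nonempty (CohB1.tensorPow L d ≅ Coh.structureModule X)) : Nonempty (Cov L d) := by
  obtain ⟨D⟩ := exists_data L hL d hord
  obtain ⟨s, hs⟩ := isCompact_univ.elim_finite_subcover (fun x => (D.U x : Set X)) (fun x => (D.U x).2)
    (fun x _ => Set.mem_iUnion.2 ⟨x, D.mem x⟩)
  exact ⟨{ I := s, fin := inferInstance, U := fun i => D.U i.1
           cov := fun x => by
             obtain ⟨y, hy, hxy⟩ := Set.mem_iUnion₂.1 (hs (Set.mem_univ x))
             exact ⟨⟨y, hy⟩, hxy⟩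
           aff := fun i => D.aff _, e := fun i => D.e _, gen := fun i => D.gen _
           u := fun i j => D.u i.1 j.1, u_spec := fun i j => D.u_spec _ _
           f := fun i => D.f _, f_unit := fun i => D.f_unit _, f_spec := fun i j => D.f_spec _ _ }⟩

variable {L : X.Modules} {d : ℕ} (D : Cov L d)

instance : Fintype D.I := D.fin

theorem Cov.u_self (i : D.I) {W : X.Opens} (h : W ≤ D.U i ⊓ D.U i) : rs h (D.u i i) = 1 := by
  have e1 := congrArg (res L h) (D.u_spec i i)
  rw [AmpleLib.res_smul, AmpleLib.res_res] at e1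
  refine ((D.gen i) W (h.trans inf_le_left)).1 ?_
  simp only [one_smul]
  exact e1.symm

theorem Cov.u_mul (i j k : D.I) {W : X.Opens} (h₁ : W ≤ D.U i ⊓ D.U j) (h₂ : W ≤ D.U j ⊓ D.U k)
    (h₃ : W ≤ D.U i ⊓ D.U k) : rs h₁ (D.u i j) * rs h₂ (D.u j k) = rs h₃ (D.u i k) := by
  have e1 := congrArg (res L h₁) (D.u_spec i j)
  have e2 := congrArg (res L h₂) (D.u_spec j k)
  have e3 := congrArg (res L h₃) (D.u_spec i k)
  rw [AmpleLib.res_smul, AmpleLib.res_res, AmpleLib.res_res] at e1 e2 e3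
  refine ((D.gen k) W (h₂.trans inf_le_right)).1 ?_
  simp only
  rw [mul_smul]
  exact (congrArg (rs h₁ (D.u i j) • ·) e2).symm.trans (e1.symm.trans e3)

theorem Cov.f_rs (i j : D.I) {W : X.Opens} (h : W ≤ D.U i ⊓ D.U j) (hi : W ≤ D.U i) (hj : W ≤ D.U j) :
    rs h (D.u i j) ^ d * rs hj (D.f j) = rs hi (D.f i) := by
  have := congrArg (rs h) (D.f_spec i j)
  rw [map_mul, map_pow, rs_rs, rs_rs] at this
  exact this.symm

/-- A compatible family of units trivialises a power. -/
theorem Cov.trivial_of_units (m : ℕ) (h : ∀ i, Γ(X, D.U i)) (hu : ∀ i, IsUnit (h i))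
    (hc : ∀ i j, rs (inf_le_left : D.U i ⊓ D.U j ≤ D.U i) (h i) * D.u i j ^ m =
      rs (inf_le_right : D.U i ⊓ D.U j ≤ D.U j) (h j)) :
    Nonempty (CohB1.tensorPow L m ≅ Coh.structureModule X) := by
  obtain ⟨s, hs, -⟩ := CubeLib.trivial_of_compatible D.U D.cov
    (fun i => h i • AmpleThLib.pS (D.e i) m)
    (fun i => CubeLib.genOn_unit_smul (AmpleThLib.pS_genOn (D.gen i) m) (hu i)) fun i j => by
      rw [AmpleLib.res_smul, AmpleLib.res_smul, AmpleThLib.pS_res, AmpleThLib.pS_res, D.u_spec,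
        AmpleThLib.pS_smul, smul_smul]
      exact congrArg (· • _) (hc i j)
  exact CubeLib.trivial_of_genOn_top hs

end TorsLineLib
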